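import Groth.Agent.RegLoc.QuasiRegular
import Mathlib.RingTheory.RegularLocalRing.Defs
import Mathlib.RingTheory.KrullDimension.Regular
import Mathlib.RingTheory.Filtration

/-! A local ring whose tangent cone is the tangent space is regular; the jet criterion. -/

set_option autoImplicit false

universe u

open IsLocalRing MvPolynomial

noncomputable section

namespace Groth.Agent.TanCone

variable {k : Type u} [Field k]

section Forms

variable {L : Type u} [CommRing L] [Algebra k L] [IsLocalRing L] {e : ℕ} (x : Fin e → L)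

theorem exists_form (hm : Ideal.span (Set.range x) = maximalIdeal L)
    (hres : ∀ a, ∃ c : k, a - algebraMap k L c ∈ maximalIdeal L) {s : ℕ} {a : L} (ha : a ∈ maximalIdeal L ^ s) :
    ∃ F : MvPolynomial (Fin e) k, F.IsHomogeneous s ∧ a - aeval x F ∈ maximalIdeal L ^ (s + 1) := by
  obtain ⟨G, hG, rfl⟩ := RegLoc.exists_homogeneous_eval x s (hm ▸ ha)
  choose c hc using hres
  refine ⟨∑ v ∈ G.support, monomial v (c (G.coeff v)), IsHomogeneous.sum _ _ _ fun v hv =>
    isHomogeneous_monomial _ (hG.degree_eq_sum_deg_support hv).symm, ?_⟩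
  rw [eval_eq', map_sum, ← Finset.sum_sub_distrib]
  refine Ideal.sum_mem _ fun v hv => ?_
  rw [aeval_monomial, Finsupp.prod_pow, ← sub_mul, pow_succ']
  refine Ideal.mul_mem_mul (hc _) ?_
  rw [← (hG.degree_eq_sum_deg_support hv).symm]
  exact RegLoc.monEval_mem hm v

variable [IsNoetherianRing L]

theorem exists_order {a : L} (ha : a ≠ 0) : ∃ s, a ∈ maximalIdeal L ^ s ∧ a ∉ maximalIdeal L ^ (s + 1) := by
  by_contra h
  push Not at h
  refine ha ?_
  have : a ∈ ⨅ s, maximalIdeal L ^ s := Ideal.mem_iInf.2 fun {s} => by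
    induction s with
    | zero => simp
    | succ s ih => exact h s ih
  rwa [Ideal.iInf_pow_eq_bot_of_isLocalRing _ (maximalIdeal.isMaximal L).ne_top, Ideal.mem_bot] at this

end Forms

theorem le_ringKrullDim : ∀ (e : ℕ) {L : Type u} [CommRing L] [Algebra k L] [IsLocalRing L] [IsNoetherianRing L]
    (x : Fin e → L), Ideal.span (Set.range x) = maximalIdeal L →
    (∀ a, ∃ c : k, a - algebraMap k L c ∈ maximalIdeal L) →
    (∀ (d : ℕ) (F : MvPolynomial (Fin e) k), F.IsHomogeneous d → aeval x F ∈ maximalIdeal L ^ (d + 1) → F = 0) →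
    (e : WithBot ℕ∞) ≤ ringKrullDim L := by
  intro e
  induction e with
  | zero => intro L _ _ _ _ x _ _ _; exact_mod_cast ringKrullDim_nonneg_of_nontrivial
  | succ e ih =>
    intro L _ _ _ _ x hm hres H
    have hx0 : x 0 ∈ maximalIdeal L := hm ▸ Ideal.subset_span ⟨0, rfl⟩
    have hreg : IsSMulRegular L (x 0) := (isSMulRegular_iff_right_eq_zero_of_smul).2 fun a ha => by
      by_contra ha0
      obtain ⟨s, hs, hs'⟩ := exists_order ha0
      obtain ⟨F, hF, hFa⟩ := exists_form x hm hres hs
      refine hs' ?_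
      have h1 : X 0 * F = 0 := H _ _ ((isHomogeneous_X k 0).mul hF) (by
        rw [map_mul, aeval_X, show x 0 * aeval x F = -(x 0 * (a - aeval x F)) by
          rw [smul_eq_mul] at ha; linear_combination ha]
        rw [show (1 + s + 1 : ℕ) = (s + 1) + 1 by ring, pow_succ' _ (s + 1)]
        exact neg_mem (Ideal.mul_mem_mul hx0 hFa))
      rw [(mul_eq_zero.1 h1).resolve_left (X_ne_zero 0), map_zero, sub_zero] at hFa
      exact hFa
    let I : Ideal L := Ideal.span {x 0}
    have hI : I ≤ maximalIdeal L := (Ideal.span_singleton_le_iff_mem _).2 hx0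
    haveI : Nontrivial (L ⧸ I) := Ideal.Quotient.nontrivial_iff.2 (fun h => (maximalIdeal.isMaximal L).ne_top (top_le_iff.1 (h ▸ hI)))
    haveI : IsLocalRing (L ⧸ I) := IsLocalRing.of_surjective' (Ideal.Quotient.mk I) Ideal.Quotient.mk_surjective
    have hmQ : maximalIdeal (L ⧸ I) = (maximalIdeal L).map (Ideal.Quotient.mk I) :=
      (IsLocalRing.map_maximalIdeal_of_surjective _ Ideal.Quotient.mk_surjective).symm
    have h1 : (e : WithBot ℕ∞) ≤ ringKrullDim (L ⧸ I) := by
      refine ih (fun i => Ideal.Quotient.mk I (x i.succ)) ?_ ?_ ?_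
      · rw [hmQ, ← hm, Ideal.map_span, ← Set.range_comp]
        refine le_antisymm (Ideal.span_mono ?_) (Ideal.span_le.2 ?_)
        · rintro _ ⟨i, rfl⟩; exact ⟨i.succ, rfl⟩
        · rintro _ ⟨i, rfl⟩
          refine Fin.cases ?_ (fun i => Ideal.subset_span ⟨i, rfl⟩) i
          show Ideal.Quotient.mk I (x 0) ∈ _
          rw [Ideal.Quotient.eq_zero_iff_mem.2 (Ideal.mem_span_singleton_self _)]
          exact zero_mem _
      · intro a
        obtain ⟨a, rfl⟩ := Ideal.Quotient.mk_surjective a
        obtain ⟨c, hc⟩ := hres a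
        exact ⟨c, by rw [hmQ]; exact map_sub (Ideal.Quotient.mk I) a _ ▸ Ideal.mem_map_of_mem _ hc⟩
      · intro d G hG hGm
        have hG' : aeval (fun i => Ideal.Quotient.mk I (x i.succ)) G = Ideal.Quotient.mk I (aeval x (rename Fin.succ G)) := by
          rw [aeval_rename]
          exact (DFunLike.congr_fun (comp_aeval (x ∘ Fin.succ) (Ideal.Quotient.mkₐ k I)) G).symm
        rw [hG', hmQ, ← Ideal.map_pow, ← Ideal.mem_comap, Ideal.comap_map_of_surjective _ Ideal.Quotient.mk_surjective] at hGm
        obtain ⟨μ, hμ, w, hw, hsum⟩ := Submodule.mem_sup.1 hGm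
        have hw' : w ∈ I := Ideal.Quotient.eq_zero_iff_mem.1 (Ideal.mem_comap.1 hw)
        obtain ⟨b, hb⟩ := Ideal.mem_span_singleton'.1 hw'
        have hG2 : (rename Fin.succ G).IsHomogeneous d := hG.rename_isHomogeneous
        rcases d with _ | d
        · have hc : G = C (G.coeff 0) := totalDegree_eq_zero_iff_eq_C.1 (le_antisymm hG.totalDegree_le bot_le)
          rw [hc]
          by_contra hne
          have hu : IsUnit (algebraMap k L (G.coeff 0)) := (Ne.isUnit fun h => hne (by rw [h, map_zero])).map _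
          refine IsLocalRing.notMem_maximalIdeal.2 hu ?_
          have : aeval x (rename Fin.succ G) = algebraMap k L (G.coeff 0) := by rw [hc, rename_C, aeval_C]; simp
          rw [← this, ← hsum]
          exact add_mem (by simpa using hμ) (hI hw')
        have hbd : ∀ s ≤ d, b ∈ maximalIdeal L ^ s := fun s hs => by
          induction s with
          | zero => simp
          | succ s ihs =>
            obtain ⟨F, hF, hFb⟩ := exists_form x hm hres (ihs (by omega))
            have h0 : X 0 * F = 0 := H _ _ ((isHomogeneous_X k 0).mul hF) (by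
              rw [map_mul, aeval_X, show x 0 * aeval x F = b * x 0 - x 0 * (b - aeval x F) by ring]
              refine sub_mem ?_ ?_
              · rw [hb, show w = aeval x (rename Fin.succ G) - μ by rw [← hsum]; ring]
                refine Ideal.pow_le_pow_right (show 1 + s + 1 ≤ d + 1 by omega) (sub_mem ?_ ?_)
                · clear hGm hsum hG'
                  have hG3 := (hG2.map (algebraMap k L))
                  rw [aeval_def, ← eval_map]
                  exact RegLoc.eval_mem hm hG3
                · exact Ideal.pow_le_pow_right (by omega) hμ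
              · rw [show (1 + s + 1 : ℕ) = (s + 1) + 1 by ring, pow_succ' _ (s + 1)]
                exact Ideal.mul_mem_mul hx0 hFb)
            rwa [(mul_eq_zero.1 h0).resolve_left (X_ne_zero 0), map_zero, sub_zero] at hFb
        obtain ⟨F, hF, hFb⟩ := exists_form x hm hres (hbd d le_rfl)
        have h0 : rename Fin.succ G - X 0 * F = 0 := H (d + 1) _
          (hG2.sub (by simpa [add_comm] using (isHomogeneous_X k 0).mul hF)) (by
            rw [map_sub, map_mul, aeval_X, ← hsum, ← hb,
              show μ + b * x 0 - x 0 * aeval x F = μ + x 0 * (b - aeval x F) by ring, pow_succ' _ (d + 1)]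
            exact add_mem (by rwa [← pow_succ']) (Ideal.mul_mem_mul hx0 hFb))
        have := congrArg (aeval (Fin.cases 0 X : Fin (e + 1) → MvPolynomial (Fin e) k)) h0
        rw [map_sub, map_mul, aeval_X, Fin.cases_zero, zero_mul, sub_zero, aeval_rename, map_zero] at this
        rwa [show (Fin.cases 0 X : Fin (e + 1) → MvPolynomial (Fin e) k) ∘ Fin.succ = X from funext fun i => by simp,
          aeval_X_left_apply] at this
    rw [← ringKrullDim_quotient_span_singleton_succ_eq_ringKrullDim hreg hx0]
    push_cast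
    exact add_le_add h1 le_rfl

section Jets

variable {L : Type u} [CommRing L] [Algebra k L] [IsLocalRing L]

open scoped Polynomial in
/-- The ring of jets of order `l`. -/
abbrev Jet (k : Type u) [Field k] (l : ℕ) : Type u := k[X] ⧸ Ideal.span {(Polynomial.X : k[X]) ^ l}

theorem exists_tangent [IsNoetherianRing L] {e : ℕ} (x : Fin e → L) (hm : Ideal.span (Set.range x) = maximalIdeal L)
    (hres : ∀ a, ∃ c : k, a - algebraMap k L c ∈ maximalIdeal L)
    (hmin : ∀ c : Fin e → k, ∑ i, c i • x i ∈ maximalIdeal L ^ 2 → c = 0) (v : Fin e → k) :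
    ∃ φ : L →ₐ[k] Jet k 2, ∀ i, φ (x i) = Ideal.Quotient.mk _ (Polynomial.C (v i) * Polynomial.X) := by
  have hxm : ∀ i, x i ∈ maximalIdeal L := fun i => hm ▸ Ideal.subset_span ⟨i, rfl⟩
  have hrep : ∀ a, ∃ p : k × (Fin e → k), a - (algebraMap k L p.1 + ∑ i, p.2 i • x i) ∈ maximalIdeal L ^ 2 := fun a => by
    obtain ⟨c, hc⟩ := hres a
    obtain ⟨r, hr⟩ := Ideal.mem_span_range_iff_exists_fun.1 (hm.symm ▸ hc : a - algebraMap k L c ∈ Ideal.span (Set.range x))
    choose q hq using fun i => hres (r i)
    refine ⟨(c, q), ?_⟩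
    rw [← sub_sub, ← hr, ← Finset.sum_sub_distrib]
    refine Ideal.sum_mem _ fun i _ => ?_
    rw [Algebra.smul_def, ← sub_mul, pow_two]
    exact Ideal.mul_mem_mul (hq i) (hxm i)
  have huniq : ∀ (p p' : k × (Fin e → k)), (algebraMap k L p.1 + ∑ i, p.2 i • x i) -
      (algebraMap k L p'.1 + ∑ i, p'.2 i • x i) ∈ maximalIdeal L ^ 2 → p = p' := fun p p' h => by
    have hs : ∀ c : Fin e → k, ∑ i, c i • x i ∈ maximalIdeal L := fun c =>
      Ideal.sum_mem _ fun i _ => Submodule.smul_of_tower_mem _ _ (hxm i)
    have h1 : algebraMap k L (p.1 - p'.1) ∈ maximalIdeal L := by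
      have := add_mem (Ideal.pow_le_self two_ne_zero h) (sub_mem (hs p'.2) (hs p.2))
      convert this using 1
      rw [map_sub]; ring
    have h2 : p.1 = p'.1 := by
      by_contra hne
      exact IsLocalRing.notMem_maximalIdeal.2 ((Ne.isUnit (sub_ne_zero.2 hne)).map _) h1
    have h3 := hmin (p.2 - p'.2) (by
      convert h using 1
      rw [h2]
      simp only [Pi.sub_apply, sub_smul, Finset.sum_sub_distrib]
      ring)
    exact Prod.ext h2 (sub_eq_zero.1 h3)
  choose π hπ using hrep
  let lam : L → k := fun a => ∑ i, (π a).2 i * v i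
  have hπeq : ∀ a p, a - (algebraMap k L p.1 + ∑ i, p.2 i • x i) ∈ maximalIdeal L ^ 2 → π a = p := fun a p h =>
    huniq _ _ (by convert sub_mem h (hπ a) using 1; ring)
  have hadd : ∀ a b, π (a + b) = π a + π b := fun a b => hπeq _ _ (by
    convert add_mem (hπ a) (hπ b) using 1
    simp only [Prod.fst_add, Prod.snd_add, map_add, Pi.add_apply, add_smul, Finset.sum_add_distrib]
    ring)
  have halg : ∀ c : k, π (algebraMap k L c) = (c, 0) := fun c => hπeq _ _ (by simp)
  have hmul : ∀ a b, π (a * b) = ((π a).1 * (π b).1, (π a).1 • (π b).2 + (π b).1 • (π a).2) := fun a b => hπeq _ _ (by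
    have ha := hπ a
    have hb := hπ b
    have hs : ∀ c : Fin e → k, ∑ i, c i • x i ∈ maximalIdeal L := fun c =>
      Ideal.sum_mem _ fun i _ => Submodule.smul_of_tower_mem _ _ (hxm i)
    have h := add_mem (add_mem (Ideal.mul_mem_right b _ ha)
      (Ideal.mul_mem_left _ (algebraMap k L (π a).1 + ∑ i, (π a).2 i • x i) hb))
      (pow_two (maximalIdeal L) ▸ Ideal.mul_mem_mul (hs (π a).2) (hs (π b).2))
    convert h using 1
    simp only [map_mul, Pi.add_apply, Pi.smul_apply, smul_eq_mul, add_smul, mul_smul, Finset.sum_add_distrib,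
      ← Finset.smul_sum]
    simp only [Algebra.smul_def]
    ring)
  let mk := Ideal.Quotient.mk (Ideal.span {(Polynomial.X : Polynomial k) ^ 2})
  refine ⟨{ toFun := fun a => mk (Polynomial.C (π a).1 + Polynomial.C (lam a) * Polynomial.X)
            map_one' := by
              have h := halg 1
              rw [map_one] at h
              simp [lam, h, mk]
            map_mul' := fun a b => by
              rw [← map_mul, eq_comm, Ideal.Quotient.eq, Ideal.mem_span_singleton]
              refine ⟨Polynomial.C (lam a * lam b), ?_⟩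
              have : lam (a * b) = (π a).1 * lam b + (π b).1 * lam a := by
                simp only [lam, hmul, Pi.add_apply, Pi.smul_apply, smul_eq_mul, add_mul, Finset.sum_add_distrib,
                  Finset.mul_sum, mul_assoc]
              rw [hmul, this]
              simp only [map_add, map_mul]
              ring
            map_zero' := by
              have h := halg 0
              rw [map_zero] at h
              simp [lam, h, mk]
            map_add' := fun a b => by
              rw [← map_add]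
              congr 1
              simp only [lam, hadd, Prod.fst_add, Prod.snd_add, Pi.add_apply, add_mul, Finset.sum_add_distrib, map_add]
              ring
            commutes' := fun c => by simp [lam, halg, mk]; rfl }, fun i => ?_⟩
  have hi : π (x i) = (0, Pi.single i 1) := hπeq _ _ (by simp [Pi.single_apply])
  show mk (Polynomial.C (π (x i)).1 + Polynomial.C (lam (x i)) * Polynomial.X) = _
  simp [lam, hi, mk, Pi.single_apply]

theorem exists_minimal (hfg : (maximalIdeal L).FG) (hres : ∀ a, ∃ c : k, a - algebraMap k L c ∈ maximalIdeal L) :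
    ∃ (e : ℕ) (x : Fin e → L), Ideal.span (Set.range x) = maximalIdeal L ∧
      ∀ c : Fin e → k, ∑ i, c i • x i ∈ maximalIdeal L ^ 2 → c = 0 := by
  classical
  have hex : ∃ e, ∃ x : Fin e → L, Ideal.span (Set.range x) = maximalIdeal L :=
    Submodule.fg_iff_exists_fin_generating_family.1 hfg
  obtain ⟨x, hx⟩ := Nat.find_spec hex
  refine ⟨_, x, hx, fun c hc => ?_⟩
  by_contra hne
  obtain ⟨j, hj⟩ := Function.ne_iff.1 hne
  have hn : Nat.find hex ≠ 0 := fun h => (Fin.cast h j).elim0
  obtain ⟨e, he⟩ := Nat.exists_eq_succ_of_ne_zero hn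
  revert x c j
  rw [he]
  intro x hx c hc _ j hj
  let y : Fin e → L := x ∘ j.succAbove
  have hle : maximalIdeal L ≤ Ideal.span (Set.range y) ⊔ maximalIdeal L • maximalIdeal L := by
    conv_lhs => rw [← hx]
    refine Ideal.span_le.2 ?_
    rintro _ ⟨i, rfl⟩
    refine Fin.succAboveCases j ?_ (fun i => Ideal.mem_sup_left (Ideal.subset_span ⟨i, rfl⟩)) i
    have hsum : c j • x j = (∑ i, c i • x i) - ∑ i, c (j.succAbove i) • y i := by
      rw [Fin.sum_univ_succAbove _ j]; simp [y]
    have : x j = algebraMap k L (c j)⁻¹ * ((∑ i, c i • x i) - ∑ i, c (j.succAbove i) • y i) := by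
      rw [← hsum, Algebra.smul_def, ← mul_assoc, ← map_mul, inv_mul_cancel₀ hj, map_one, one_mul]
    rw [this]
    refine Ideal.mul_mem_left _ _ (sub_mem (Ideal.mem_sup_right (by rwa [smul_eq_mul, ← pow_two]))
      (Ideal.sum_mem _ fun i _ => Submodule.smul_of_tower_mem _ _ (Ideal.mem_sup_left (Ideal.subset_span ⟨i, rfl⟩))))
  refine Nat.find_min hex (he ▸ Nat.lt_succ_self e) ⟨y, le_antisymm ?_ ?_⟩
  · rw [← hx]; exact Ideal.span_mono (Set.range_comp_subset_range _ _)
  · exact Submodule.le_of_le_smul_of_le_jacobson_bot hfg (maximalIdeal_le_jacobson _) hle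

/-- The jet criterion for regularity. -/
theorem isRegularLocalRing_of_jets [IsNoetherianRing L] [Infinite k]
    (hres : ∀ a, ∃ c : k, a - algebraMap k L c ∈ maximalIdeal L)
    (hlift : ∀ (l : ℕ), 1 ≤ l → ∀ φ : L →ₐ[k] Jet k l, ∃ ψ : L →ₐ[k] Jet k (l + 1),
      (Ideal.Quotient.factorₐ k
        (Ideal.span_singleton_le_span_singleton.mpr (pow_dvd_pow (Polynomial.X : Polynomial k) (Nat.le_succ l)))).comp ψ = φ) :
    IsRegularLocalRing L := by
  obtain ⟨e, x, hm, hmin⟩ := exists_minimal (IsNoetherian.noetherian _) hres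
  refine IsRegularLocalRing.of_spanFinrank_maximalIdeal_le L (le_trans ?_ (le_ringKrullDim e x hm hres fun d F hF hFm =>
    funext fun v => ?_))
  · have h1 := (hm ▸ Submodule.spanFinrank_span_le_ncard_of_finite (R := L) (Set.finite_range x) :
      (maximalIdeal L).spanFinrank ≤ (Set.range x).ncard)
    have h2 : (Set.range x).ncard ≤ e := by
      rw [← Set.image_univ]
      exact (Set.ncard_image_le).trans (by simp)
    exact_mod_cast h1.trans h2
  rw [map_zero]
  obtain ⟨φ, hφ⟩ := exists_tangent x hm hres hmin v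
  have key : ∀ l, ∃ ψ : L →ₐ[k] Jet k (l + 2), ∀ i, ∃ g : Polynomial k,
      ψ (x i) = Ideal.Quotient.mk _ (Polynomial.X * g) ∧ g.coeff 0 = v i := fun l => by
    induction l with
    | zero => exact ⟨φ, fun i => ⟨Polynomial.C (v i), by rw [hφ, mul_comm], Polynomial.coeff_C_zero⟩⟩
    | succ l ih =>
      obtain ⟨ψ, hψ⟩ := ih
      obtain ⟨ψ', hψ'⟩ := hlift (l + 2) (by omega) ψ
      refine ⟨ψ', fun i => ?_⟩
      obtain ⟨g, hg, hg0⟩ := hψ i
      obtain ⟨p, hp⟩ := Ideal.Quotient.mk_surjective (ψ' (x i))
      have := DFunLike.congr_fun hψ' (x i)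
      rw [AlgHom.comp_apply, ← hp, hg] at this
      change Ideal.Quotient.mk _ p = Ideal.Quotient.mk _ (Polynomial.X * g) at this
      rw [Ideal.Quotient.eq, Ideal.mem_span_singleton] at this
      obtain ⟨q, hq⟩ := this
      refine ⟨g + Polynomial.X ^ (l + 1) * q, ?_, ?_⟩
      · rw [← hp]; congr 1
        linear_combination hq
      · simp [hg0, Polynomial.mul_coeff_zero]
  obtain ⟨ψ, hψ⟩ : ∃ ψ : L →ₐ[k] Jet k (d + 2), ∀ i, ∃ g : Polynomial k,
      ψ (x i) = Ideal.Quotient.mk _ (Polynomial.X * g) ∧ g.coeff 0 = v i := key d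
  choose g hg hg0 using hψ
  have hψm : ∀ a ∈ maximalIdeal L, ψ a ∈ Ideal.span {Ideal.Quotient.mk _ (Polynomial.X : Polynomial k)} := by
    intro a ha
    rw [← hm] at ha
    induction ha using Submodule.span_induction with
    | mem y hy => obtain ⟨i, rfl⟩ := hy; rw [hg, map_mul]; exact Ideal.mem_span_singleton'.2 ⟨_, mul_comm _ _⟩
    | zero => rw [map_zero]; exact zero_mem _
    | add a b _ _ ha hb => rw [map_add]; exact add_mem ha hb
    | smul r a _ ha => rw [smul_eq_mul, map_mul]; exact Ideal.mul_mem_left _ _ ha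
  have h1 : ψ (aeval x F) ∈ Ideal.span {Ideal.Quotient.mk _ (Polynomial.X : Polynomial k)} ^ (d + 1) := by
    have hle : (maximalIdeal L ^ (d + 1)).map ψ ≤ Ideal.span {Ideal.Quotient.mk _ (Polynomial.X : Polynomial k)} ^ (d + 1) := by
      rw [Ideal.map_pow]
      exact Ideal.pow_right_mono (Ideal.map_le_iff_le_comap.2 hψm) _
    exact hle (Ideal.mem_map_of_mem _ hFm)
  rw [show ψ (aeval x F) = Ideal.Quotient.mkₐ k _ (aeval (fun i => Polynomial.X * g i) F) by
    rw [← AlgHom.comp_apply, ← AlgHom.comp_apply, comp_aeval, comp_aeval]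
    congr 1; congr 1; funext i; exact hg i] at h1
  rw [Ideal.span_singleton_pow, ← map_pow, Ideal.mem_span_singleton'] at h1
  obtain ⟨r, hr⟩ := h1
  obtain ⟨r, rfl⟩ := Ideal.Quotient.mk_surjective r
  have hhom : aeval (fun i => Polynomial.X * g i) F = Polynomial.X ^ d * aeval g F := by
    rw [aeval_def, aeval_def, eval₂_eq', eval₂_eq', Finset.mul_sum]
    refine Finset.sum_congr rfl fun w hw => ?_
    simp only [mul_pow, Finset.prod_mul_distrib, Finset.prod_pow_eq_pow_sum]
    rw [← Finsupp.degree_eq_sum, show Finsupp.degree w = d from (hF.degree_eq_sum_deg_support hw).symm]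
    ring
  rw [← map_mul] at hr
  change Ideal.Quotient.mk _ _ = Ideal.Quotient.mk _ _ at hr
  rw [Ideal.Quotient.eq, Ideal.mem_span_singleton, hhom] at hr
  obtain ⟨q, hq⟩ := hr
  have h2 : aeval g F = Polynomial.X * (r - Polynomial.X * q) := by
    refine mul_left_cancel₀ (pow_ne_zero d Polynomial.X_ne_zero) ?_
    linear_combination -hq
  have h3 : (Polynomial.aeval (0 : k) : Polynomial k →ₐ[k] k) (aeval g F) = eval v F := by
    rw [← AlgHom.comp_apply, comp_aeval, ← MvPolynomial.aeval_eq_eval]
    refine congrArg (fun w => aeval w F) (_root_.funext fun i => ?_)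
    rw [← hg0 i, Polynomial.coeff_zero_eq_eval_zero, Polynomial.coe_aeval_eq_eval]
  rw [← h3, h2]
  simp

end Jets

end Groth.Agent.TanCone
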